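import Groth.Agent.PInsepStepLib.Basic
import Groth.Agent.ASKumLib.Galois
import Groth.Agent.NagNorm.Basic

/-!
# Purely inseparable extensions of degree `p` of a weakly unramified extension
-/

set_option autoImplicit false
set_option backward.isDefEq.respectTransparency false
set_option linter.style.haveILetI false
set_option linter.unusedSectionVars false
set_option maxHeartbeats 2000000
set_option synthInstance.maxHeartbeats 100000

universe u

open IsLocalRing Polynomial
open scoped TensorProduct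

noncomputable section

namespace Groth.Agent.PInsepStepLib

/-- A root of `X ^ p - π ^ (J + 1) X - π` has value `1/p` of that of `π`. -/
theorem root_valuation {F : Type u} [Field F] {V : ValuationSubring F} {p : ℕ} (hp : 0 < p) {t θ : F}
    (ht : V.valuation t < 1) (ht0 : t ≠ 0) (J : ℕ) (hθ : θ ^ p = t * (1 + t ^ J * θ)) :
    V.valuation (t ^ J * θ) < 1 ∧ V.valuation θ ^ p = V.valuation t := by
  have hθ1 : V.valuation θ < 1 := by
    by_contra! h
    have h1 : V.valuation (1 + t ^ J * θ) ≤ V.valuation θ := by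
      refine (Valuation.map_add _ _ _).trans (max_le (by rw [map_one]; exact h) ?_)
      rw [map_mul, map_pow]
      exact mul_le_of_le_one_left' (pow_le_one₀ zero_le' ht.le)
    have h2 : V.valuation θ ^ p < V.valuation θ := by
      rw [← map_pow, hθ, map_mul]
      refine lt_of_le_of_lt (mul_le_mul_right h1 _) ?_
      exact mul_lt_of_lt_one_left (lt_of_lt_of_le zero_lt_one h) ht
    exact absurd h2 (not_lt.2 (le_self_pow₀ h hp.ne'))
  have hδ : V.valuation (t ^ J * θ) < 1 := by
    rw [map_mul, map_pow]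
    exact lt_of_le_of_lt (mul_le_of_le_one_left' (pow_le_one₀ zero_le' ht.le)) hθ1
  refine ⟨hδ, ?_⟩
  rw [← map_pow, hθ, map_mul, Valuation.map_add_eq_of_lt_left, map_one, mul_one]
  rwa [map_one]

section Residual

variable {B F : Type u} [CommRing B] [IsDomain B] [IsDiscreteValuationRing B] [Field F] [Algebra B F]

/-- The residually inseparable element. -/
theorem exists_inseparable_elt {p : ℕ} [Fact p.Prime] [CharP F p] {V : ValuationSubring F}
    (hV : EtRam.Dominates B (algebraMap B F) V) {π : B} (hπ : Irreducible π) (hπF : algebraMap B F π ≠ 0)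
    {u w : B} (b : Fin p → B) (J : ℕ) (hu : u = (∑ i : Fin p, b i ^ p * π ^ (i : ℕ)) + π ^ J * w)
    {c θ : F} (hc : c ^ p = algebraMap B F (u * π))
    (hθ : θ ^ p = algebraMap B F π * (1 + algebraMap B F π ^ J * θ)) :
    V.valuation (((c / θ - ∑ i : Fin p, algebraMap B F (b i) * θ ^ (i : ℕ)) / θ ^ J) ^ p - algebraMap B F w) < 1 := by
  have hp : 0 < p := (Fact.out : p.Prime).pos
  set g := algebraMap B F with hg
  have ht : V.valuation (g π) < 1 := hV.2 π hπ.not_isUnit
  obtain ⟨hδ, hvθ⟩ := root_valuation hp ht hπF J hθ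
  have hθ1 : V.valuation θ < 1 := lt_of_not_ge fun h => absurd ht (not_lt.2 (hvθ ▸ one_le_pow_of_one_le' h p))
  set δ := g π ^ J * θ with hδdef
  have hD : V.valuation (1 + δ) = 1 := by
    rw [Valuation.map_add_eq_of_lt_left, map_one]
    rwa [map_one]
  have hD0 : 1 + δ ≠ 0 := fun h => by rw [h, map_zero] at hD; exact zero_ne_one hD
  have hpowsub : ∀ n : ℕ, V.valuation ((1 + δ) ^ n - 1) ≤ V.valuation δ := fun n => by
    rw [← geom_sum_mul, map_mul, add_sub_cancel_left]
    refine mul_le_of_le_one_left' ((V.valuation_le_one_iff _).2 (sum_mem fun i _ => pow_mem ?_ _))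
    exact (V.valuation_le_one_iff _).1 hD.le
  have hθ0 : θ ≠ 0 := fun h => by
    rw [h, zero_pow hp.ne'] at hθ
    exact mul_ne_zero hπF hD0 hθ.symm
  have hz : ((c / θ - ∑ i : Fin p, g (b i) * θ ^ (i : ℕ)) / θ ^ J) ^ p - g w =
      ((g u * ((1 + δ)⁻¹ - 1)) - (∑ i : Fin p, g (b i) ^ p * g π ^ (i : ℕ) * ((1 + δ) ^ (i : ℕ) - 1)) -
        g π ^ J * g w * ((1 + δ) ^ J - 1)) / (g π * (1 + δ)) ^ J := by
    have h1 : (∑ i : Fin p, g (b i) * θ ^ (i : ℕ)) ^ p = ∑ i : Fin p, g (b i) ^ p * (g π * (1 + δ)) ^ (i : ℕ) := by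
      rw [sum_pow_char]
      refine Finset.sum_congr rfl fun i _ => ?_
      rw [mul_pow, ← pow_mul, mul_comm (i : ℕ) p, pow_mul, hθ]
    have h2 : (c / θ) ^ p = g u / (1 + δ) := by
      rw [div_pow, hc, hθ, map_mul, mul_comm (g u), mul_div_mul_left _ _ hπF]
    rw [div_pow, sub_pow_char, h1, h2, ← pow_mul, mul_comm J p, pow_mul, hθ, eq_div_iff (pow_ne_zero _
      (mul_ne_zero hπF hD0)), sub_mul, div_mul_cancel₀ _ (pow_ne_zero _ (mul_ne_zero hπF hD0))]
    have h3 : ∑ i : Fin p, g (b i) ^ p * g π ^ (i : ℕ) * ((1 + δ) ^ (i : ℕ) - 1) =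
        (∑ i : Fin p, g (b i) ^ p * (g π * (1 + δ)) ^ (i : ℕ)) - ∑ i : Fin p, g (b i) ^ p * g π ^ (i : ℕ) := by
      rw [← Finset.sum_sub_distrib]
      exact Finset.sum_congr rfl fun i _ => by rw [mul_pow (g π)]; ring
    have h4 : g u = (∑ i : Fin p, g (b i) ^ p * g π ^ (i : ℕ)) + g π ^ J * g w := by
      rw [hu, map_add, map_sum, map_mul, map_pow]
      simp only [map_mul, map_pow]
    rw [h3, mul_pow (g π) _ J]
    linear_combination h4
  rw [hz, map_div₀, map_pow, map_mul, hD, mul_one]
  have hlt : V.valuation δ < V.valuation (g π) ^ J := by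
    rw [hδdef, map_mul, map_pow]
    exact mul_lt_of_lt_one_right (pow_pos (zero_lt_iff.2 ((_root_.map_ne_zero _).2 hπF)) _) hθ1
  rw [div_lt_one₀ (pow_pos (zero_lt_iff.2 ((_root_.map_ne_zero _).2 hπF)) _)]
  refine lt_of_le_of_lt ?_ hlt
  refine Valuation.map_sub_le _ (Valuation.map_sub_le _ ?_ ?_) ?_
  · rw [map_mul, show (1 + δ)⁻¹ - 1 = -δ / (1 + δ) by field_simp; ring, map_div₀, Valuation.map_neg, hD, div_one]
    exact mul_le_of_le_one_left' (val_le_one hV _)
  · refine Valuation.map_sum_le _ fun i _ => ?_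
    rw [map_mul]
    refine (mul_le_of_le_one_left' ?_).trans (hpowsub _)
    exact (V.valuation_le_one_iff _).2 (mul_mem (pow_mem (hV.1 _) _) (pow_mem (hV.1 _) _))
  · rw [map_mul]
    refine (mul_le_of_le_one_left' ?_).trans (hpowsub _)
    exact (V.valuation_le_one_iff _).2 (mul_mem (pow_mem (hV.1 _) _) (hV.1 _))

end Residual

/-- The valuation of an element generates: weak unramifiedness of `W ∩ K₁ → W`. -/
theorem weaklyUnramified_comap {K₁ F : Type u} [Field K₁] [Field F] (W : ValuationSubring F) (f : K₁ →+* F) (t : K₁)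
    (ht1 : W.valuation (f t) < 1) (hmax : ∀ x : F, W.valuation x < 1 → W.valuation x ≤ W.valuation (f t)) :
    letI : Algebra (W.comap f) W := (EtRam.inclOfComap W f).toAlgebra
    EtRam.IsWeaklyUnramified (W.comap f) W := by
  letI : Algebra (W.comap f) W := (EtRam.inclOfComap W f).toAlgebra
  haveI : IsLocalHom (algebraMap (W.comap f) W) := EtRam.isLocalHom_inclOfComap W f
  refine le_antisymm (Ideal.map_le_iff_le_comap.2 fun x hx => map_nonunit (algebraMap (W.comap f) W) x hx) fun x hx => ?_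
  have hmem : f t ∈ W := (W.valuation_le_one_iff _).1 ht1.le
  let t' : W.comap f := ⟨t, hmem⟩
  have ht' : t' ∈ maximalIdeal (W.comap f) := by
    rw [mem_maximalIdeal, mem_nonunits_iff]
    intro hu
    have h := hu.map (algebraMap (W.comap f) W)
    exact (mem_maximalIdeal _).1 ((W.valuation_lt_one_iff (algebraMap (W.comap f) W t')).2 ht1) h
  have hxv : W.valuation (x : F) < 1 := (W.valuation_lt_one_iff x).1 hx
  rcases eq_or_ne (f t) 0 with h0 | h0
  · have h2 := hmax x hxv
    rw [h0, map_zero] at h2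
    have hx0 : x = 0 := Subtype.ext ((map_eq_zero _).1 (le_antisymm h2 zero_le'))
    rw [hx0]
    exact zero_mem _
  · have hq : (x : F) / f t ∈ W := (W.valuation_le_one_iff _).1 (by
      rw [map_div₀]; exact div_le_one_of_le₀ (hmax x hxv) zero_le')
    rw [show x = algebraMap (W.comap f) W t' * ⟨_, hq⟩ from Subtype.ext (mul_div_cancel₀ (x : F) h0).symm]
    exact Ideal.mul_mem_right _ _ (Ideal.mem_map_of_mem _ ht')

/-- A field generated by the image of a monogenic extension. -/
theorem finite_of_generated {K K₁ E F : Type u} [Field K] [Field K₁] [Field E] [Field F] [Algebra K K₁] [Algebra K E]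
    [Algebra K F] [Algebra E F] [IsScalarTower K E F] [Algebra K₁ F] [IsScalarTower K K₁ F] (t : K₁)
    (htop : Algebra.adjoin K {t} = ⊤) (f : K[X]) (hf : f.Monic) (hft : aeval t f = 0)
    (hgen : Algebra.adjoin E (Set.range (algebraMap K₁ F)) = ⊤) :
    FiniteDimensional E F ∧ Module.finrank E F ≤ f.natDegree := by
  have h : IntermediateField.adjoin E {algebraMap K₁ F t} = ⊤ := by
    refine eq_top_iff.2 fun x _ => ?_
    have hle : Algebra.adjoin E (Set.range (algebraMap K₁ F)) ≤
        (IntermediateField.adjoin E {algebraMap K₁ F t}).toSubalgebra := by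
      refine Algebra.adjoin_le ?_
      rintro _ ⟨y, rfl⟩
      obtain ⟨q, rfl⟩ := (Algebra.adjoin_singleton_eq_range_aeval K t ▸ htop ▸ Algebra.mem_top :
        y ∈ (aeval t : K[X] →ₐ[K] K₁).range)
      show algebraMap K₁ F (aeval t q) ∈ IntermediateField.adjoin E {algebraMap K₁ F t}
      rw [← aeval_algebraMap_apply, ← aeval_map_algebraMap E]
      exact IntermediateField.algebra_adjoin_le_adjoin E _ (aeval_mem_adjoin_singleton E _)
    exact hle (hgen ▸ Algebra.mem_top)
  obtain ⟨h1, h2, -⟩ := ASKumLib.finiteDimensional_of_gen (f.map (algebraMap K E)) (hf.map _)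
    (by rw [aeval_map_algebraMap, aeval_algebraMap_apply, hft, map_zero]) h
  exact ⟨h1, h2.trans natDegree_map_le⟩

/-- The tensor product with a monogenic extension of independent powers is a field. -/
theorem isField_tensor {K E Ω : Type u} [Field K] [Field E] [Field Ω] [Algebra K E] [Algebra K Ω] [Algebra E Ω]
    [IsScalarTower K E Ω] (K₁ : IntermediateField K Ω) [FiniteDimensional K K₁] {p : ℕ}
    (hp : Module.finrank K K₁ = p) (θ : Ω) (hθ : θ ∈ K₁) (hli : LinearIndependent E fun i : Fin p => θ ^ (i : ℕ)) :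
    IsField (E ⊗[K] K₁) := by
  let φ : E ⊗[K] K₁ →ₐ[E] Ω := Algebra.TensorProduct.lift (Algebra.ofId E Ω) K₁.val fun _ _ => Commute.all _ _
  have hmem : ∀ i : Fin p, θ ^ (i : ℕ) ∈ LinearMap.range φ.toLinearMap := fun i =>
    ⟨(1 : E) ⊗ₜ[K] (⟨θ, hθ⟩ : K₁) ^ (i : ℕ), by
      show φ _ = _
      simp [φ]⟩
  haveI : Module.Finite E (E ⊗[K] K₁) := Module.Finite.base_change K E K₁
  have hge : p ≤ Module.finrank E (LinearMap.range φ.toLinearMap) := by
    have h := (LinearIndependent.of_comp (LinearMap.range φ.toLinearMap).subtype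
      (v := fun i : Fin p => (⟨_, hmem i⟩ : LinearMap.range φ.toLinearMap)) hli).fintype_card_le_finrank
    rwa [Fintype.card_fin] at h
  have hinj : Function.Injective φ.toLinearMap := by
    have h := LinearMap.finrank_range_add_finrank_ker φ.toLinearMap
    rw [Module.finrank_baseChange, hp] at h
    exact LinearMap.ker_eq_bot.1 (Submodule.finrank_eq_zero.1 (by omega))
  haveI : IsDomain (E ⊗[K] K₁) := hinj.isDomain φ.toRingHom
  haveI : Algebra.IsIntegral E (E ⊗[K] K₁) := Algebra.IsIntegral.of_finite E _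
  exact isField_of_isIntegral_of_isField' (S := E ⊗[K] K₁) (Field.toIsField E)

end Groth.Agent.PInsepStepLib
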