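import Groth.Agent.PInsepStepLib.Main

/-!
# The trichotomy for a purely inseparable step of degree `p`
-/

set_option autoImplicit false
set_option backward.isDefEq.respectTransparency false
set_option linter.style.haveILetI false
set_option linter.unusedSectionVars false
set_option maxHeartbeats 2000000
set_option synthInstance.maxHeartbeats 100000

universe u

open IsLocalRing Polynomial
open scoped TensorProduct

noncomputable section

namespace Groth.Agent.PInsepStepLib

variable {B C L M : Type u} [CommRing B] [IsDomain B] [IsDiscreteValuationRing B] [CommRing C] [IsDomain C]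
  [IsDiscreteValuationRing C] [Algebra B C] [IsLocalHom (algebraMap B C)] [Field L] [Field M] [Algebra B L]
  [IsFractionRing B L] [Algebra C M] [IsFractionRing C M] [Algebra L M] [Algebra B M] [IsScalarTower B L M]
  [IsScalarTower B C M]

theorem dominates_of_dominates {F : Type u} [Field F] [Algebra C F] [Algebra B F] [IsScalarTower B C F]
    {V : ValuationSubring F} (hV : EtRam.Dominates C (algebraMap C F) V) :
    EtRam.Dominates B (algebraMap B F) V := by
  refine ⟨fun b => ?_, fun b hb => ?_⟩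
  · rw [IsScalarTower.algebraMap_apply B C F]; exact hV.1 _
  · rw [IsScalarTower.algebraMap_apply B C F]; exact hV.2 _ (map_nonunit (algebraMap B C) b hb)

include L M in
/-- A totally ramified `p`-th root of the uniformizer generates. -/
theorem adjoin_root_eq_top {p : ℕ} (hp : p.Prime) [FiniteDimensional L M] (hdeg : Module.finrank L M = p) {π : B}
    (hπ : Irreducible π) {c : C} (hc : c ^ p = algebraMap B C π) : Algebra.adjoin B {c} = ⊤ := by
  obtain ⟨W, hW⟩ := ASKumLib.exists_dominates (A := C) (K := M) (L := M)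
  have hWB := dominates_of_dominates (B := B) hW
  set θ := algebraMap C M c with hθdef
  have hθ : W.valuation θ ^ p = W.valuation (algebraMap B M π) := by
    rw [← map_pow, hθdef, ← map_pow, hc, ← IsScalarTower.algebraMap_apply]
  have hy := resIndep_one hWB
  have hli := linearIndependent_family (L := L) hp.pos hWB hy hπ hθ
  have hspan := hli.span_eq_top_of_card_eq_finrank'
    (by rw [Fintype.card_prod, Fintype.card_fin, Fintype.card_unit, mul_one, hdeg])
  refine eq_top_iff.2 fun x _ => ?_
  obtain ⟨a, ha⟩ := (Submodule.mem_span_range_iff_exists_fun L).1 (hspan ▸ Submodule.mem_top :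
    algebraMap C M x ∈ Submodule.span L (Set.range fun e : Fin p × Unit => θ ^ (e.1 : ℕ) * (1 : M)))
  simp only [Algebra.smul_def] at ha
  have hle : ∀ e, W.valuation (algebraMap L M (a e)) ≤ 1 := fun e => by
    have h := (outer hp.pos hWB hy hπ hθ a).1 e
    rw [ha] at h
    have hx : W.valuation (algebraMap C M x) ≤ 1 := (W.valuation_le_one_iff _).2 (hW.1 x)
    rcases eq_or_ne (a e) 0 with h0 | h0
    · rw [h0, map_zero, map_zero]; exact zero_le'
    obtain ⟨k, hk⟩ := val_eq_zpow hWB hπ _ h0
    have hθ0 := theta_pos (L := L) hp.pos hπ hθ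
    have hθ1 := theta_lt_one hWB hπ hθ
    rw [hk, ← hθ] at h ⊢
    rw [← zpow_natCast, ← zpow_natCast, ← zpow_mul, ← zpow_add₀ hθ0.ne'] at h
    rw [← zpow_natCast, ← zpow_mul]
    have h2 : 0 ≤ (p : ℤ) * k + (e.1 : ℕ) := by
      by_contra! hlt
      refine not_lt.2 (h.trans hx) ?_
      have h3 := zpow_right_strictAnti₀ hθ0 hθ1 hlt
      simp only [zpow_zero] at h3
      exact h3
    have h4 : 0 ≤ k := by
      by_contra! hk0
      have h5 : (p : ℤ) * k ≤ (p : ℤ) * (-1) := mul_le_mul_of_nonneg_left (by omega) (by positivity)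
      have h6 := e.1.2
      omega
    exact ((zpow_right_strictAnti₀ hθ0 hθ1).antitone (mul_nonneg (by positivity) h4)).trans_eq (zpow_zero _)
  choose b hb using fun e => mem_range_of_val_le_one hWB (a e) (hle e)
  have hx : x = ∑ e : Fin p × Unit, algebraMap B C (b e) * c ^ (e.1 : ℕ) := IsFractionRing.injective C M (by
    rw [← ha, map_sum]
    refine Finset.sum_congr rfl fun e _ => ?_
    rw [map_mul, map_pow, ← IsScalarTower.algebraMap_apply, mul_one, IsScalarTower.algebraMap_apply B L M, hb, hθdef])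
  rw [hx]
  exact sum_mem fun e _ => mul_mem (Subalgebra.algebraMap_mem _ _)
    (pow_mem (Algebra.subset_adjoin (Set.mem_singleton c)) _)

include L in
/-- In a Nagata ring the approximations are bounded. -/
theorem approximations_bounded {Ω : Type u} [Field Ω] [Algebra L Ω] [Algebra B Ω] [IsScalarTower B L Ω]
    {p : ℕ} [Fact p.Prime] [CharP Ω p] (hB : CAlg.IsNagata B) {π : B} (hπ : Irreducible π) {u : B} {θ t : Ω}
    (hθ : θ ^ p = algebraMap B Ω π) (ht : t ^ p = algebraMap B Ω u)
    (htS : t ∉ IntermediateField.adjoin L ({θ} : Set Ω)) :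
    ∃ j, ∀ b : Fin p → B, ¬ π ^ j ∣ u - ∑ i : Fin p, b i ^ p * π ^ (i : ℕ) := by
  have hp : p.Prime := Fact.out
  by_contra! hall
  let g := algebraMap B Ω
  have hgL : ∀ r : B, g r = algebraMap L Ω (algebraMap B L r) := IsScalarTower.algebraMap_apply B L Ω
  have hπL : algebraMap B L π ≠ 0 := (map_ne_zero_iff _ (IsFractionRing.injective B L)).2 hπ.ne_zero
  have hπΩ : g π ≠ 0 := by
    rw [hgL]
    exact (map_ne_zero_iff _ (algebraMap L Ω).injective).2 hπL
  have hroot : ∀ (y : Ω) (a : B), y ^ p = g a → IsIntegral L y := fun y a h =>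
    ⟨X ^ p - Polynomial.C (algebraMap B L a), monic_X_pow_sub_C _ hp.ne_zero, by
      rw [← aeval_def, map_sub, map_pow, aeval_X, aeval_C, ← hgL, h, sub_self]⟩
  let S := IntermediateField.adjoin L ({θ} : Set Ω)
  obtain ⟨φ, hφt, hφS⟩ :=
    Submodule.exists_dual_map_eq_bot_of_notMem (p := S.toSubalgebra.toSubmodule) htS inferInstance
  let F := IntermediateField.adjoin L ({t, θ} : Set Ω)
  haveI : FiniteDimensional L F := IntermediateField.finiteDimensional_adjoin (S := ({t, θ} : Set Ω)) (by
    rintro x (rfl | rfl)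
    · exact hroot _ u ht
    · exact hroot _ π hθ)
  haveI : Algebra.EssFiniteType B L := Algebra.EssFiniteType.of_isLocalization L (nonZeroDivisors B)
  haveI : Algebra.EssFiniteType B F := Algebra.EssFiniteType.comp B L F
  haveI := NagNorm.finite_integralClosure_field (F := F) hB
  let ψ : integralClosure B F →ₗ[B] L :=
    (φ.restrictScalars B).comp ((F.val.toLinearMap.restrictScalars B).comp (integralClosure B F).val.toLinearMap)
  obtain ⟨s, hs⟩ := (Module.Finite.fg_top (R := B) (M := integralClosure B F)).map ψ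
  obtain ⟨⟨d, hd⟩, hdm⟩ := IsLocalization.exist_integer_multiples_of_finset (nonZeroDivisors B) s
  have hint : ∀ x, IsLocalization.IsInteger B ((d : B) • ψ x) := by
    intro x
    have hx : ψ x ∈ Submodule.span B (s : Set L) := hs ▸ Submodule.mem_map_of_mem Submodule.mem_top
    generalize ψ x = y at hx ⊢
    induction hx using Submodule.span_induction with
    | mem y hy => exact hdm y hy
    | zero => exact ⟨0, by simp⟩
    | add y z _ _ hy hz => rw [smul_add]; exact IsLocalization.isInteger_add hy hz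
    | smul r y _ hy => rw [smul_comm]; exact IsLocalization.isInteger_smul hy
  obtain ⟨k, v, hv⟩ := IsDiscreteValuationRing.eq_unit_mul_pow_irreducible (nonZeroDivisors.ne_zero hd) hπ
  obtain ⟨⟨n₁, ⟨d₁, hd₁⟩⟩, hn₁⟩ := IsLocalization.surj (nonZeroDivisors B) (φ t)
  have hd₁0 : algebraMap B L d₁ ≠ 0 :=
    (map_ne_zero_iff _ (IsFractionRing.injective B L)).2 (nonZeroDivisors.ne_zero hd₁)
  have hn0 : n₁ ≠ 0 := fun h => by
    rw [h, map_zero, mul_eq_zero] at hn₁
    exact hn₁.elim hφt hd₁0
  obtain ⟨i₁, u₁, hu₁⟩ := IsDiscreteValuationRing.eq_unit_mul_pow_irreducible hn0 hπ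
  let m := k + i₁ + 1
  obtain ⟨b, q, hbq⟩ := hall (p * m)
  let x : Ω := (t - ∑ i : Fin p, g (b i) * θ ^ (i : ℕ)) / g π ^ m
  have hgF : ∀ r : B, g r ∈ F := fun r => by rw [hgL]; exact F.algebraMap_mem _
  have hxF : x ∈ F :=
    div_mem (sub_mem (IntermediateField.subset_adjoin L _ (Set.mem_insert _ _)) (sum_mem fun i _ => mul_mem (hgF _)
      (pow_mem (IntermediateField.subset_adjoin L _ (Set.mem_insert_of_mem _ (Set.mem_singleton _))) _)))
      (pow_mem (hgF _) _)
  have hxp : x ^ p = g q := by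
    simp only [x]
    rw [div_pow, sub_pow_char, sum_pow_char, ht, div_eq_iff (pow_ne_zero _ (pow_ne_zero _ hπΩ)), ← map_pow, ← map_pow,
      ← map_mul, ← pow_mul, mul_comm m p, mul_comm q, ← hbq, map_sub, map_sum]
    congr 1
    refine Finset.sum_congr rfl fun i _ => ?_
    rw [mul_pow, ← pow_mul, mul_comm (i : ℕ) p, pow_mul, hθ, ← map_pow, ← map_pow, ← map_mul]
  have hxint : IsIntegral B (⟨x, hxF⟩ : F) :=
    (isIntegral_algHom_iff (F.val.restrictScalars B) Subtype.val_injective).1
      (IsIntegral.of_pow hp.pos (hxp ▸ isIntegral_algebraMap))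
  obtain ⟨e, he⟩ := hint ⟨_, hxint⟩
  have hφx : φ x = φ t / algebraMap B L π ^ m := by
    have h1 : φ (∑ i : Fin p, g (b i) * θ ^ (i : ℕ)) = 0 := by
      have h2 : (∑ i : Fin p, g (b i) * θ ^ (i : ℕ)) ∈ S := sum_mem fun i _ => mul_mem
        (show g (b i) ∈ S by rw [hgL]; exact S.algebraMap_mem _)
        (pow_mem (IntermediateField.mem_adjoin_simple_self L θ) _)
      have h3 := Submodule.mem_map_of_mem (f := φ) (p := S.toSubalgebra.toSubmodule) h2
      rwa [hφS, Submodule.mem_bot] at h3
    have h4 : x = (algebraMap B L π ^ m)⁻¹ • (t - ∑ i : Fin p, g (b i) * θ ^ (i : ℕ)) := by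
      rw [Algebra.smul_def, map_inv₀, map_pow, ← hgL, inv_mul_eq_div]
    rw [h4, map_smul, map_sub, h1, sub_zero, smul_eq_mul, inv_mul_eq_div]
  have he' : algebraMap B L e = algebraMap B L d * (φ t / algebraMap B L π ^ m) := by
    rw [he, Algebra.smul_def, ← hφx]
    rfl
  have key : e * d₁ * π ^ m = d * n₁ := by
    apply IsFractionRing.injective B L
    rw [map_mul, map_mul, map_mul, map_pow, ← hn₁, he']
    field_simp
  rw [hv, hu₁] at key
  have key2 : π * (e * d₁) = ↑v * ↑u₁ := mul_right_cancel₀ (pow_ne_zero (k + i₁) hπ.ne_zero) (by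
    calc π * (e * d₁) * π ^ (k + i₁) = e * d₁ * π ^ m := by simp only [m, pow_succ]; ring
      _ = _ := by rw [key, pow_add]; ring)
  exact hπ.not_isUnit (isUnit_of_mul_isUnit_left (key2 ▸ v.isUnit.mul u₁.isUnit))

include L in
/-- A best approximation of `u`. -/
theorem exists_best_approximation {p : ℕ} [Fact p.Prime] [CharP B p] [CharP M p] [FiniteDimensional L M]
    (hB : CAlg.IsNagata B) {π : B} (hπ : Irreducible π) {u : B} {c : C}
    (hc : c ^ p = algebraMap B C (u * π)) (hu : IsUnit u) (hno : ∀ x : M, x ^ p ≠ algebraMap B M π) :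
    ∃ (b : Fin p → B) (J : ℕ) (w : B), u = (∑ i : Fin p, b i ^ p * π ^ (i : ℕ)) + π ^ J * w ∧
      ∀ r : B, residue B w ≠ residue B r ^ p := by
  classical
  have hp : p.Prime := Fact.out
  let Ω := AlgebraicClosure M
  haveI : CharP Ω p := charP_of_injective_algebraMap (algebraMap M Ω).injective p
  let g := algebraMap B Ω
  have hgL : ∀ r : B, g r = algebraMap L Ω (algebraMap B L r) := IsScalarTower.algebraMap_apply B L Ω
  have hπΩ : g π ≠ 0 := by
    rw [hgL]
    exact (map_ne_zero_iff _ (algebraMap L Ω).injective).2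
      ((map_ne_zero_iff _ (IsFractionRing.injective B L)).2 hπ.ne_zero)
  obtain ⟨θ, hθ⟩ := IsAlgClosed.exists_pow_nat_eq (g π) hp.pos
  have hθ0 : θ ≠ 0 := fun h => hπΩ (by rw [← hθ, h, zero_pow hp.ne_zero])
  let cΩ := algebraMap M Ω (algebraMap C M c)
  have hcΩ : cΩ ^ p = g (u * π) := by
    simp only [cΩ]
    rw [← map_pow, ← map_pow, hc, ← IsScalarTower.algebraMap_apply, ← IsScalarTower.algebraMap_apply]
  have ht : (cΩ / θ) ^ p = g u := by
    rw [div_pow, hcΩ, hθ, map_mul, mul_div_cancel_right₀ _ hπΩ]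
  have htS : cΩ / θ ∉ IntermediateField.adjoin L ({θ} : Set Ω) := by
    intro htS
    let S := IntermediateField.adjoin L ({θ} : Set Ω)
    let f : L[X] := X ^ p - Polynomial.C (algebraMap B L π)
    have hfθ : aeval θ f = 0 := by
      rw [map_sub, map_pow, aeval_X, aeval_C, ← hgL, hθ, sub_self]
    have hθint : IsIntegral L θ := ⟨f, monic_X_pow_sub_C _ hp.ne_zero, by simpa [aeval_def] using hfθ⟩
    haveI : FiniteDimensional L S := IntermediateField.adjoin.finiteDimensional hθint
    have hS : Module.finrank L S ≤ p := by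
      rw [IntermediateField.adjoin.finrank hθint]
      exact (natDegree_le_of_dvd (minpoly.dvd L θ hfθ) (monic_X_pow_sub_C _ hp.ne_zero).ne_zero).trans_eq
        natDegree_X_pow_sub_C
    have hcS : cΩ ∈ S := by
      have h1 : cΩ / θ * θ ∈ S := mul_mem htS (IntermediateField.mem_adjoin_simple_self L θ)
      rwa [div_mul_cancel₀ _ hθ0] at h1
    obtain ⟨W, hW⟩ := ASKumLib.exists_dominates (A := C) (K := M) (L := Ω)
    have hWB := dominates_of_dominates (B := B) hW
    have hval : W.valuation cΩ ^ p = W.valuation (g π) := by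
      rw [← map_pow, hcΩ, map_mul, map_mul, ← hu.unit_spec, val_unit hWB, one_mul]
    let v : Fin p × Unit → S := fun e => ⟨cΩ, hcS⟩ ^ (e.1 : ℕ) * 1
    have hliS : LinearIndependent L v := LinearIndependent.of_comp S.val.toLinearMap
      (linearIndependent_family (L := L) hp.pos hWB (resIndep_one hWB) hπ hval)
    have hspan := hliS.span_eq_top_of_card_eq_finrank' (le_antisymm hliS.fintype_card_le_finrank
      (by rw [Fintype.card_prod, Fintype.card_fin, Fintype.card_unit, mul_one]; exact hS))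
    obtain ⟨a, ha⟩ := (Submodule.mem_span_range_iff_exists_fun L).1 (hspan ▸ Submodule.mem_top :
      (⟨θ, IntermediateField.mem_adjoin_simple_self L θ⟩ : S) ∈ Submodule.span L (Set.range v))
    refine hno (∑ e, a e • algebraMap C M c ^ (e.1 : ℕ)) ((algebraMap M Ω).injective ?_)
    have h2 : θ = algebraMap M Ω (∑ e, a e • algebraMap C M c ^ (e.1 : ℕ)) := by
      have h3 := congrArg S.val ha
      simp only [v, map_sum, map_smul, map_mul, map_pow, map_one, mul_one] at h3
      refine h3.symm.trans ?_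
      rw [map_sum]
      refine Finset.sum_congr rfl fun e _ => ?_
      rw [Algebra.smul_def, Algebra.smul_def, map_mul, map_pow, ← IsScalarTower.algebraMap_apply]
      rfl
    rw [map_pow, ← h2, hθ, ← IsScalarTower.algebraMap_apply]
  let P : ℕ → Prop := fun j => ∃ b : Fin p → B, π ^ j ∣ u - ∑ i : Fin p, b i ^ p * π ^ (i : ℕ)
  have hbd : ∃ j, ¬ P j := by
    obtain ⟨j, hj⟩ := approximations_bounded (L := L) hB hπ hθ ht htS
    exact ⟨j, fun ⟨b, hb⟩ => hj b hb⟩
  obtain ⟨j₀, hj₀P, hmin⟩ : ∃ j₀, ¬ P j₀ ∧ ∀ j < j₀, P j :=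
    ⟨Nat.find hbd, Nat.find_spec hbd, fun j hj => not_not.1 (Nat.find_min hbd hj)⟩
  rcases j₀ with _ | J
  · exact absurd ⟨0, by rw [pow_zero]; exact one_dvd _⟩ hj₀P
  obtain ⟨b, w, hw⟩ := hmin J J.lt_succ_self
  refine ⟨b, J, w, by rw [← hw]; ring, fun r hr => hj₀P ?_⟩
  let i₀ : Fin p := ⟨J % p, Nat.mod_lt _ hp.pos⟩
  obtain ⟨v, hv⟩ : π ∣ w - r ^ p := by
    rw [← Ideal.mem_span_singleton, ← hπ.maximalIdeal_eq, ← residue_eq_zero_iff, map_sub, map_pow, hr, sub_self]
  refine ⟨Function.update b i₀ (b i₀ + π ^ (J / p) * r), v, ?_⟩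
  have h1 : ∀ i : Fin p, Function.update b i₀ (b i₀ + π ^ (J / p) * r) i ^ p * π ^ (i : ℕ) =
      b i ^ p * π ^ (i : ℕ) + if i = i₀ then π ^ J * r ^ p else 0 := by
    intro i
    rcases eq_or_ne i i₀ with rfl | hne
    · have hπJ : π ^ J = (π ^ (J / p)) ^ p * π ^ (J % p) := by
        rw [← pow_mul, ← pow_add, Nat.mul_comm, Nat.div_add_mod]
      rw [Function.update_self, if_pos rfl, add_pow_char, mul_pow, hπJ]
      simp only [i₀]
      ring
    · rw [Function.update_of_ne hne, if_neg hne, add_zero]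
  rw [Finset.sum_congr rfl fun i _ => h1 i, Finset.sum_add_distrib, Finset.sum_ite_eq' Finset.univ i₀,
    if_pos (Finset.mem_univ _), pow_succ, ← sub_sub, hw, mul_assoc, ← hv]
  ring

end Groth.Agent.PInsepStepLib
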