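import Groth.Prelude.Def_EtRam
import Mathlib

/-!
# Valuations on extensions generated by a root of a uniformizer and residually independent elements
-/

set_option autoImplicit false
set_option backward.isDefEq.respectTransparency false
set_option linter.style.haveILetI false
set_option linter.unusedSectionVars false
set_option maxHeartbeats 1000000

universe u

open IsLocalRing

noncomputable section

namespace Groth.Agent.PInsepStepLib

variable {B L F : Type u} [CommRing B] [IsDomain B] [IsDiscreteValuationRing B] [Field L] [Algebra B L]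
  [IsFractionRing B L] [Field F] [Algebra L F] [Algebra B F] [IsScalarTower B L F]
  {V : ValuationSubring F}

theorem val_le_one (hV : EtRam.Dominates B (algebraMap B F) V) (b : B) : V.valuation (algebraMap B F b) ≤ 1 :=
  (V.valuation_le_one_iff _).2 (hV.1 b)

theorem val_unit (hV : EtRam.Dominates B (algebraMap B F) V) (b : Bˣ) : V.valuation (algebraMap B F b) = 1 := by
  refine le_antisymm (val_le_one hV _) ?_
  have h : V.valuation (algebraMap B F b) * V.valuation (algebraMap B F (b⁻¹ : Bˣ)) = 1 := by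
    rw [← map_mul, ← map_mul, Units.mul_inv, map_one, map_one]
  exact h.symm.trans_le (mul_le_of_le_one_right' (val_le_one hV _))

include L in
theorem algebraMap_ne_zero {b : B} (hb : b ≠ 0) : algebraMap B F b ≠ 0 := by
  rw [IsScalarTower.algebraMap_apply B L F]
  exact (map_ne_zero_iff _ (algebraMap L F).injective).2 ((map_ne_zero_iff _ (IsFractionRing.injective B L)).2 hb)

include L in
theorem val_pos {b : B} (hb : b ≠ 0) : 0 < V.valuation (algebraMap B F b) :=
  zero_lt_iff.2 ((map_ne_zero _).2 (algebraMap_ne_zero (L := L) hb))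

theorem val_eq_zpow (hV : EtRam.Dominates B (algebraMap B F) V) {π : B} (hπ : Irreducible π) (a : L) (ha : a ≠ 0) :
    ∃ k : ℤ, V.valuation (algebraMap L F a) = V.valuation (algebraMap B F π) ^ k := by
  obtain ⟨⟨x, d⟩, h⟩ := IsLocalization.surj (nonZeroDivisors B) a
  have hx : x ≠ 0 := fun h0 => by
    rw [h0, map_zero, mul_eq_zero] at h
    exact h.elim ha ((map_ne_zero_iff _ (IsFractionRing.injective B L)).2 (nonZeroDivisors.ne_zero d.2))
  obtain ⟨i, v, hv⟩ := IsDiscreteValuationRing.eq_unit_mul_pow_irreducible hx hπ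
  obtain ⟨j, w, hw⟩ := IsDiscreteValuationRing.eq_unit_mul_pow_irreducible (nonZeroDivisors.ne_zero d.2) hπ
  refine ⟨(i : ℤ) - j, ?_⟩
  have h1 := congrArg (fun t => V.valuation (algebraMap L F t)) h
  simp only [map_mul, ← IsScalarTower.algebraMap_apply] at h1
  rw [hv, hw] at h1
  simp only [map_mul, map_pow, val_unit hV, one_mul] at h1
  have hπ0 : V.valuation (algebraMap B F π) ≠ 0 := (val_pos (L := L) hπ.ne_zero).ne'
  rw [zpow_sub₀ hπ0, zpow_natCast, zpow_natCast, eq_div_iff (pow_ne_zero _ hπ0), h1]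

theorem mem_range_of_val_le_one (hV : EtRam.Dominates B (algebraMap B F) V) (a : L)
    (h : V.valuation (algebraMap L F a) ≤ 1) : ∃ b : B, algebraMap B L b = a := by
  rcases ValuationRing.isInteger_or_isInteger B a with ⟨b, hb⟩ | ⟨b, hb⟩
  · exact ⟨b, hb⟩
  · by_cases hu : IsUnit b
    · obtain ⟨u, rfl⟩ := hu
      exact ⟨(u⁻¹ : Bˣ), by rw [map_units_inv, hb, inv_inv]⟩
    · rcases eq_or_ne a 0 with rfl | ha
      · exact ⟨0, map_zero _⟩
      exfalso
      have h1 := hV.2 b hu
      rw [IsScalarTower.algebraMap_apply B L F, hb, map_inv₀, map_inv₀, inv_lt_one₀] at h1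
      · exact not_lt.2 h h1
      · exact zero_lt_iff.2 ((map_ne_zero _).2 ((map_ne_zero_iff _ (algebraMap L F).injective).2 ha))

variable {ι : Type*} [Fintype ι] {y : ι → F}

/-- Residual independence. -/
def ResIndep (B : Type u) [CommRing B] [IsLocalRing B] {F : Type u} [Field F] [Algebra B F] (V : ValuationSubring F)
    {ι : Type*} [Fintype ι] (y : ι → F) : Prop :=
  (∀ l, V.valuation (y l) ≤ 1) ∧
    ∀ b : ι → B, V.valuation (∑ l, algebraMap B F (b l) * y l) < 1 → ∀ l, b l ∈ maximalIdeal B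

theorem resIndep_one (hV : EtRam.Dominates B (algebraMap B F) V) : ResIndep B V fun _ : Unit => (1 : F) := by
  refine ⟨fun _ => by rw [map_one], fun b hb l => ?_⟩
  simp only [Finset.univ_unique, Finset.sum_singleton, mul_one] at hb
  by_contra hu
  rw [mem_maximalIdeal, mem_nonunits_iff, not_not] at hu
  obtain ⟨v, hv⟩ := hu
  have : l = default := Subsingleton.elim _ _
  rw [← this, ← hv, val_unit hV] at hb
  exact lt_irrefl _ hb

theorem val_one (hV : EtRam.Dominates B (algebraMap B F) V) (hy : ResIndep B V y) (l : ι) : V.valuation (y l) = 1 := by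
  classical
  refine le_antisymm (hy.1 l) (not_lt.1 fun h => ?_)
  have h2 := hy.2 (fun j => if j = l then 1 else 0) (lt_of_eq_of_lt (congrArg V.valuation (by simp)) h) l
  rw [if_pos rfl] at h2
  exact (mem_maximalIdeal _).1 h2 isUnit_one

/-- A combination has the value of its largest coefficient. -/
theorem inner (hV : EtRam.Dominates B (algebraMap B F) V) (hy : ResIndep B V y) {π : B} (hπ : Irreducible π)
    (a : ι → L) :
    (∀ l, V.valuation (algebraMap L F (a l)) ≤ V.valuation (∑ j, algebraMap L F (a j) * y j)) ∧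
      ((∑ j, algebraMap L F (a j) * y j) = 0 ∨
        ∃ k : ℤ, V.valuation (∑ j, algebraMap L F (a j) * y j) = V.valuation (algebraMap B F π) ^ k) := by
  classical
  by_cases hall : ∀ l, a l = 0
  · exact ⟨fun l => by simp [hall], Or.inl (by simp [hall])⟩
  push Not at hall
  obtain ⟨l₁, hl₁⟩ := hall
  obtain ⟨l₀, -, hmax⟩ := Finset.univ.exists_max_image (fun l => V.valuation (algebraMap L F (a l)))
    ⟨l₁, Finset.mem_univ _⟩
  have ha₀ : a l₀ ≠ 0 := fun h => by
    have h1 := hmax l₁ (Finset.mem_univ _)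
    simp only [h, map_zero] at h1
    exact hl₁ ((map_eq_zero_iff _ (algebraMap L F).injective).1 ((map_eq_zero _).1 (le_antisymm h1 zero_le')))
  have hF0 : algebraMap L F (a l₀) ≠ 0 := (map_ne_zero_iff _ (algebraMap L F).injective).2 ha₀
  have hb : ∀ l, ∃ b : B, algebraMap B L b = a l / a l₀ := fun l => mem_range_of_val_le_one hV _ (by
    rw [map_div₀, map_div₀]
    exact div_le_one_of_le₀ (hmax l (Finset.mem_univ _)) zero_le')
  choose b hb using hb
  have hsum : ∑ j, algebraMap L F (a j) * y j = algebraMap L F (a l₀) * ∑ j, algebraMap B F (b j) * y j := by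
    rw [Finset.mul_sum]
    refine Finset.sum_congr rfl fun j _ => ?_
    rw [IsScalarTower.algebraMap_apply B L F, hb, map_div₀, ← mul_assoc, mul_div_cancel₀ _ hF0]
  have h1 : V.valuation (∑ j, algebraMap B F (b j) * y j) = 1 := by
    refine le_antisymm ((V.valuation_le_one_iff _).2 (sum_mem fun j _ =>
      mul_mem (hV.1 _) ((V.valuation_le_one_iff _).1 (hy.1 j)))) (not_lt.1 fun h => ?_)
    have hb₀ : b l₀ = 1 := IsFractionRing.injective B L (by rw [hb, div_self ha₀, map_one])
    exact (mem_maximalIdeal _).1 (hy.2 b h l₀) (hb₀ ▸ isUnit_one)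
  have hval : V.valuation (∑ j, algebraMap L F (a j) * y j) = V.valuation (algebraMap L F (a l₀)) := by
    rw [hsum, map_mul, h1, mul_one]
  refine ⟨fun l => (hmax l (Finset.mem_univ _)).trans_eq hval.symm, Or.inr ?_⟩
  obtain ⟨k, hk⟩ := val_eq_zpow hV hπ _ ha₀
  exact ⟨k, hval.trans hk⟩

theorem theta_lt_one {p : ℕ} (hV : EtRam.Dominates B (algebraMap B F) V) {π : B} (hπ : Irreducible π) {θ : F}
    (hθ : V.valuation θ ^ p = V.valuation (algebraMap B F π)) : V.valuation θ < 1 :=
  lt_of_not_ge fun h => absurd (hV.2 π hπ.not_isUnit) (not_lt.2 (hθ ▸ one_le_pow_of_one_le' h p))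

include L in
theorem theta_pos {p : ℕ} (hp : 0 < p) {π : B} (hπ : Irreducible π) {θ : F}
    (hθ : V.valuation θ ^ p = V.valuation (algebraMap B F π)) : 0 < V.valuation θ :=
  zero_lt_iff.2 fun h => by
    rw [h, zero_pow hp.ne'] at hθ
    exact (val_pos (L := L) hπ.ne_zero).ne hθ

/-- A double combination has the value of its largest term. -/
theorem outer {p : ℕ} (hp : 0 < p) (hV : EtRam.Dominates B (algebraMap B F) V) (hy : ResIndep B V y) {π : B}
    (hπ : Irreducible π) {θ : F} (hθ : V.valuation θ ^ p = V.valuation (algebraMap B F π)) (a : Fin p × ι → L) :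
    (∀ e, V.valuation (algebraMap L F (a e)) * V.valuation θ ^ (e.1 : ℕ) ≤
        V.valuation (∑ e : Fin p × ι, algebraMap L F (a e) * (θ ^ (e.1 : ℕ) * y e.2))) ∧
      ((∑ e : Fin p × ι, algebraMap L F (a e) * (θ ^ (e.1 : ℕ) * y e.2)) = 0 ∨
        ∃ n : ℤ, V.valuation (∑ e : Fin p × ι, algebraMap L F (a e) * (θ ^ (e.1 : ℕ) * y e.2)) = V.valuation θ ^ n) := by
  classical
  let S : Fin p → F := fun i => ∑ l, algebraMap L F (a (i, l)) * y l
  have hsum : ∑ e : Fin p × ι, algebraMap L F (a e) * (θ ^ (e.1 : ℕ) * y e.2) = ∑ i : Fin p, θ ^ (i : ℕ) * S i := by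
    rw [Fintype.sum_prod_type]
    refine Finset.sum_congr rfl fun i _ => ?_
    rw [Finset.mul_sum]
    exact Finset.sum_congr rfl fun l _ => by ring
  have hθ0 := theta_pos (L := L) hp hπ hθ
  have hθ1 := theta_lt_one hV hπ hθ
  have hin := fun i : Fin p => inner hV hy hπ fun l => a (i, l)
  have hle : ∀ e : Fin p × ι, V.valuation (algebraMap L F (a e)) * V.valuation θ ^ (e.1 : ℕ) ≤
      V.valuation (θ ^ (e.1 : ℕ) * S e.1) := fun e => by
    rw [map_mul, map_pow, mul_comm]
    exact mul_le_mul_right ((hin e.1).1 e.2) _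
  rw [hsum]
  by_cases hall : ∀ i, S i = 0
  · exact ⟨fun e => (hle e).trans (by simp [hall]), Or.inl (by simp [hall])⟩
  push Not at hall
  obtain ⟨i₁, hi₁⟩ := hall
  obtain ⟨i₀, -, hmax⟩ := Finset.univ.exists_max_image (fun i : Fin p => V.valuation (θ ^ (i : ℕ) * S i))
    ⟨i₁, Finset.mem_univ _⟩
  have hexp : ∀ i : Fin p, S i ≠ 0 → ∃ k : ℤ, V.valuation (θ ^ (i : ℕ) * S i) = V.valuation θ ^ ((p : ℤ) * k + i) :=
    fun i hi => by
      obtain ⟨k, hk⟩ := (hin i).2.resolve_left hi
      refine ⟨k, ?_⟩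
      rw [map_mul, map_pow, hk, ← hθ, zpow_add₀ hθ0.ne', zpow_mul, zpow_natCast, zpow_natCast, mul_comm]
  have hi₀ : S i₀ ≠ 0 := fun h => by
    have h1 := hmax i₁ (Finset.mem_univ _)
    simp only [h, mul_zero, map_zero] at h1
    obtain ⟨k, hk⟩ := hexp i₁ hi₁
    rw [hk] at h1
    exact absurd h1 (not_le.2 (zpow_pos hθ0 _))
  have hval : V.valuation (∑ i : Fin p, θ ^ (i : ℕ) * S i) = V.valuation (θ ^ (i₀ : ℕ) * S i₀) := by
    refine Valuation.map_sum_eq_of_lt _ (Finset.mem_univ i₀) fun j hj => ?_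
    rw [Finset.mem_sdiff, Finset.mem_singleton] at hj
    refine lt_of_le_of_ne (hmax j (Finset.mem_univ _)) fun h => ?_
    obtain ⟨k₀, hk₀⟩ := hexp i₀ hi₀
    rcases eq_or_ne (S j) 0 with h0 | h0
    · rw [h0, mul_zero, map_zero, hk₀] at h
      exact (zpow_pos hθ0 _).ne h
    · obtain ⟨k, hk⟩ := hexp j h0
      rw [hk, hk₀] at h
      have h2 := congrArg (fun z : ℤ => z % (p : ℤ)) (zpow_right_injective₀ hθ0 hθ1.ne h)
      simp only [Int.mul_add_emod_self_left, ← Int.natCast_mod, Nat.mod_eq_of_lt j.2, Nat.mod_eq_of_lt i₀.2] at h2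
      exact hj.2 (Fin.ext (by exact_mod_cast h2))
  refine ⟨fun e => (hle e).trans ((hmax e.1 (Finset.mem_univ _)).trans_eq hval.symm), Or.inr ?_⟩
  obtain ⟨k, hk⟩ := hexp i₀ hi₀
  exact ⟨_, hval.trans hk⟩

theorem linearIndependent_family {p : ℕ} (hp : 0 < p) (hV : EtRam.Dominates B (algebraMap B F) V)
    (hy : ResIndep B V y) {π : B} (hπ : Irreducible π) {θ : F}
    (hθ : V.valuation θ ^ p = V.valuation (algebraMap B F π)) :
    LinearIndependent L fun e : Fin p × ι => θ ^ (e.1 : ℕ) * y e.2 := by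
  refine Fintype.linearIndependent_iff.2 fun a ha e => ?_
  have h0 : ∑ e : Fin p × ι, algebraMap L F (a e) * (θ ^ (e.1 : ℕ) * y e.2) = 0 := by
    simpa [Algebra.smul_def] using ha
  have h := (outer hp hV hy hπ hθ a).1 e
  rw [h0, map_zero, le_zero_iff, mul_eq_zero, or_iff_left (pow_ne_zero _ (theta_pos (L := L) hp hπ hθ).ne'),
    map_eq_zero, map_eq_zero_iff _ (algebraMap L F).injective] at h
  exact h

theorem le_theta [FiniteDimensional L F] {p : ℕ} (hp : 0 < p) (hV : EtRam.Dominates B (algebraMap B F) V)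
    (hy : ResIndep B V y) {π : B} (hπ : Irreducible π) {θ : F}
    (hθ : V.valuation θ ^ p = V.valuation (algebraMap B F π))
    (hfin : Module.finrank L F ≤ Fintype.card (Fin p × ι)) (x : F) (hx : V.valuation x < 1) :
    V.valuation x ≤ V.valuation θ := by
  have hli := linearIndependent_family (L := L) hp hV hy hπ hθ
  have hspan := hli.span_eq_top_of_card_eq_finrank' (le_antisymm hli.fintype_card_le_finrank hfin)
  obtain ⟨a, rfl⟩ := (Submodule.mem_span_range_iff_exists_fun L).1 (hspan ▸ Submodule.mem_top : x ∈ Submodule.span L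
    (Set.range fun e : Fin p × ι => θ ^ (e.1 : ℕ) * y e.2))
  simp only [Algebra.smul_def] at hx ⊢
  rcases (outer hp hV hy hπ hθ a).2 with h | ⟨n, hn⟩
  · rw [h, map_zero]; exact zero_le'
  rw [hn] at hx ⊢
  have hθ0 := theta_pos (L := L) hp hπ hθ
  have hθ1 := theta_lt_one hV hπ hθ
  have hn1 : 1 ≤ n := by
    by_contra! h
    exact absurd hx (not_lt.2 (one_le_zpow_of_nonpos₀ hθ0 hθ1.le (by omega)))
  exact ((zpow_right_strictAnti₀ hθ0 hθ1).antitone hn1).trans_eq (zpow_one _)

/-- Powers of an element whose `p`-th power has a residue which is not a `p`-th power. -/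
theorem resIndep_pow (hV : EtRam.Dominates B (algebraMap B F) V) {p : ℕ} (hp : p.Prime) (w : B)
    (hw : ∀ r : B, residue B w ≠ residue B r ^ p) (z : F)
    (hz : V.valuation (z ^ p - algebraMap B F w) < 1) : ResIndep B V fun l : Fin p => z ^ (l : ℕ) := by
  have hzV : z ∈ V := by
    refine (V.valuation_le_one_iff z).1 (le_of_not_gt fun h => ?_)
    have h1 : (1 : V.ValueGroup) < V.valuation (z ^ p) := by rw [map_pow]; exact one_lt_pow₀ h hp.ne_zero
    have h2 := lt_of_le_of_lt (val_le_one hV w) h1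
    exact absurd ((Valuation.map_sub_eq_of_lt_left _ h2) ▸ hz) (not_lt.2 h1.le)
  refine ⟨fun l => by rw [map_pow]; exact pow_le_one₀ zero_le' ((V.valuation_le_one_iff z).2 hzV), fun a hlt => ?_⟩
  let k := ResidueField B
  letI : Algebra B V := (RingHom.codRestrict (algebraMap B F) V hV.1).toAlgebra
  haveI : IsLocalHom (algebraMap B V) := ⟨fun r hr => by
    by_contra hnu
    exact (V.valuation_lt_one_iff (algebraMap B V r)).2 (hV.2 r hnu) hr⟩
  have hirr : Irreducible (Polynomial.X ^ p - Polynomial.C (residue B w) : Polynomial k) :=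
    X_pow_sub_C_irreducible_of_prime hp fun r => by
      obtain ⟨r, rfl⟩ := residue_surjective r
      exact (hw r).symm
  let zb : ResidueField V := residue V ⟨z, hzV⟩
  have hzb : zb ^ p = algebraMap k (ResidueField V) (residue B w) := by
    show residue V _ ^ p = residue V (algebraMap B V w)
    rw [← map_pow, ← sub_eq_zero, ← map_sub, residue_eq_zero_iff, V.valuation_lt_one_iff]
    exact hz
  have hmin : minpoly k zb = Polynomial.X ^ p - Polynomial.C (residue B w) :=
    (minpoly.eq_of_irreducible_of_monic hirr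
      (by rw [map_sub, map_pow, Polynomial.aeval_X, Polynomial.aeval_C, hzb, sub_self])
      (Polynomial.monic_X_pow_sub_C _ hp.ne_zero)).symm
  have hli := linearIndependent_pow (K := k) zb
  rw [hmin, Polynomial.natDegree_X_pow_sub_C] at hli
  intro i
  have hsum : ∑ j, residue B (a j) • zb ^ (j : ℕ) = 0 := by
    have h0 : residue V (∑ j, algebraMap B V (a j) * (⟨z, hzV⟩ : V) ^ (j : ℕ)) = 0 := by
      rw [residue_eq_zero_iff, V.valuation_lt_one_iff]
      refine lt_of_eq_of_lt (congrArg V.valuation ?_) hlt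
      rw [AddSubmonoidClass.coe_finsetSum]
      rfl
    rw [map_sum] at h0
    refine Eq.trans (Finset.sum_congr rfl fun j _ => ?_) h0
    rw [map_mul, map_pow, Algebra.smul_def]
    rfl
  exact (residue_eq_zero_iff _).1 (Fintype.linearIndependent_iff.1 hli _ hsum i)

end Groth.Agent.PInsepStepLib
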