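import Groth.Agent.PInsepStepLib.Trichotomy

/-!
# The trichotomy
-/

set_option autoImplicit false
set_option backward.isDefEq.respectTransparency false
set_option linter.style.haveILetI false
set_option linter.unusedSectionVars false
set_option maxHeartbeats 2000000
set_option synthInstance.maxHeartbeats 100000

universe u

open IsLocalRing Polynomial
open scoped TensorProduct

noncomputable section

namespace Groth.Agent.PInsepStepLib

/-- In a purely inseparable extension of degree `p` the `p`-th powers come from below. -/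
theorem pow_mem_range {p : ℕ} (hp : p.Prime) (L M : Type u) [Field L] [Field M] [Algebra L M] [IsPurelyInseparable L M]
    (hdeg : Module.finrank L M = p) : CharP L p ∧ ∀ x : M, x ^ p ∈ Set.range (algebraMap L M) := by
  haveI : FiniteDimensional L M := Module.finite_of_finrank_pos (hdeg ▸ hp.pos)
  obtain ⟨q, hq⟩ := ExpChar.exists L
  obtain ⟨n, hn⟩ := IsPurelyInseparable.finrank_eq_pow L M q
  rw [hdeg] at hn
  have hn0 : n ≠ 0 := fun h => hp.ne_one (by rw [hn, h, pow_zero])
  obtain rfl : p = q := ((Nat.prime_dvd_prime_iff_eq hp (((expChar_is_prime_or_one L q).resolve_right fun h1 => hp.ne_one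
    (by rw [hn, h1, one_pow])))).1 (hp.dvd_of_dvd_pow (n := n) (by rw [← hn])))
  refine ⟨?_, fun x => ?_⟩
  · rcases hq with _ | ⟨hprime⟩
    · exact absurd rfl hp.ne_one
    · assumption
  · obtain ⟨m, y, hxy⟩ := IsPurelyInseparable.minpoly_eq_X_pow_sub_C L p x
    have hdvd := minpoly.degree_dvd (K := L) (L := M) (x := x) (Algebra.IsIntegral.isIntegral x)
    rw [hxy, natDegree_X_pow_sub_C, hdeg] at hdvd
    have hx := minpoly.aeval L x
    rw [hxy, map_sub, map_pow, aeval_X, aeval_C, sub_eq_zero] at hx
    rcases (Nat.dvd_prime hp).1 hdvd with h | h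
    · rw [h, pow_one] at hx
      exact ⟨y ^ p, by rw [map_pow, hx]⟩
    · rw [h] at hx
      exact ⟨y, hx.symm⟩

theorem trichotomy (p : ℕ) (hp : p.Prime) (A B C K L M : Type u)
    [CommRing A] [IsDomain A] [IsDiscreteValuationRing A] [CommRing B] [IsDomain B] [IsDiscreteValuationRing B]
    [CommRing C] [IsDomain C] [IsDiscreteValuationRing C]
    [Algebra A B] [Algebra B C] [Algebra A C] [IsScalarTower A B C]
    (hAB : Function.Injective (algebraMap A B)) (hBC : Function.Injective (algebraMap B C))
    [IsLocalHom (algebraMap A B)] [IsLocalHom (algebraMap B C)]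
    [Field K] [Field L] [Field M] [Algebra A K] [IsFractionRing A K] [Algebra B L] [IsFractionRing B L]
    [Algebra C M] [IsFractionRing C M] [Algebra K L] [Algebra L M] [Algebra K M] [IsScalarTower K L M]
    [Algebra A L] [IsScalarTower A K L] [IsScalarTower A B L] [Algebra B M] [IsScalarTower B L M] [IsScalarTower B C M]
    [Algebra A M] [IsScalarTower A K M] [IsScalarTower A C M]
    (π : A) (hπ : IsLocalRing.maximalIdeal A = Ideal.span {π}) (hB : CAlg.IsNagata B)
    (hw : EtRam.IsWeaklyUnramified A B) [IsPurelyInseparable L M] (hdeg : Module.finrank L M = p) :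
    EtRam.IsWeaklyUnramified A C ∨
      (∃ c : C, c ^ p = algebraMap A C π ∧ Algebra.adjoin B {c} = ⊤) ∨
      ∃ (K₁ : Type u) (_ : Field K₁) (_ : Algebra K K₁),
        Module.finrank K K₁ = p ∧ Algebra.IsSeparable K K₁ ∧
          EtRam.IsTotallyRamified A ((algebraMap K K₁).comp (algebraMap A K)) ∧
          IsField (L ⊗[K] K₁) ∧ IsField (M ⊗[K] K₁) ∧
          EtRam.IsWeakSolution B K L K₁ ∧ EtRam.IsWeakSolution C K M K₁ := by
  classical
  haveI : Fact p.Prime := ⟨hp⟩
  haveI : FiniteDimensional L M := Module.finite_of_finrank_pos (hdeg ▸ hp.pos)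
  obtain ⟨hcL, hpow⟩ := pow_mem_range hp L M hdeg
  haveI := hcL
  haveI : CharP M p := charP_of_injective_algebraMap (algebraMap L M).injective p
  haveI : CharP B p := (RingHom.charP_iff (algebraMap B L) (IsFractionRing.injective B L) p).2 inferInstance
  have hπi : Irreducible π := (IsDiscreteValuationRing.irreducible_iff_uniformizer π).2 hπ
  set πB := algebraMap A B π with hπBdef
  have hπB : Irreducible πB := (IsDiscreteValuationRing.irreducible_iff_uniformizer πB).2 (by
    rw [← hw, hπ, Ideal.map_span, Set.image_singleton])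
  obtain ⟨ϖ, hϖ⟩ := IsDiscreteValuationRing.exists_irreducible C
  obtain ⟨e, v, hev⟩ := IsDiscreteValuationRing.eq_unit_mul_pow_irreducible
    ((map_ne_zero_iff _ hBC).2 hπB.ne_zero) hϖ
  -- the `p`-th power of the uniformizer comes from `B`
  obtain ⟨a, ha⟩ := hpow (algebraMap C M ϖ)
  obtain ⟨W, hW⟩ := ASKumLib.exists_dominates (A := C) (K := M) (L := M)
  have hWB := dominates_of_dominates (B := B) hW
  obtain ⟨a', ha'⟩ := mem_range_of_val_le_one hWB a (by
    rw [ha, ← map_pow]; exact (W.valuation_le_one_iff _).2 (hW.1 _))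
  have haC : algebraMap B C a' = ϖ ^ p := IsFractionRing.injective C M (by
    rw [← IsScalarTower.algebraMap_apply, IsScalarTower.algebraMap_apply B L M, ha', ha, map_pow])
  have ha0 : a' ≠ 0 := fun h => by
    rw [h, map_zero] at haC
    exact pow_ne_zero p hϖ.ne_zero haC.symm
  obtain ⟨k, u, hku⟩ := IsDiscreteValuationRing.eq_unit_mul_pow_irreducible ha0 hπB
  have hek : ((1 : Cˣ) : C) * ϖ ^ p = ((Units.map (algebraMap B C).toMonoidHom u * v ^ k : Cˣ) : C) * ϖ ^ (e * k) := by
    rw [Units.val_one, one_mul, ← haC, hku, map_mul, map_pow, hev, mul_pow, pow_mul, Units.val_mul, Units.val_pow_eq_pow_val,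
      ← mul_assoc]
    rfl
  have hpek : p = e * k := IsDiscreteValuationRing.unit_mul_pow_congr_pow hϖ hϖ _ _ _ _ hek
  rcases (Nat.dvd_prime hp).1 ⟨k, hpek⟩ with rfl | hep
  · left
    show (maximalIdeal A).map (algebraMap A C) = maximalIdeal C
    rw [hπ, Ideal.map_span, Set.image_singleton, hϖ.maximalIdeal_eq, IsScalarTower.algebraMap_apply A B C, ← hπBdef, hev,
      pow_one, Ideal.span_singleton_mul_left_unit v.isUnit]
  have hk : k = 1 := by
    rw [hep] at hpek
    exact Nat.eq_of_mul_eq_mul_left hp.pos (by rw [mul_one]; exact hpek.symm)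
  rw [hk, pow_one] at hku
  have hc : ϖ ^ p = algebraMap B C (↑u * πB) := by rw [← haC, hku]
  by_cases hno : ∀ x : M, x ^ p ≠ algebraMap B M πB
  · right; right
    obtain ⟨b, J, w, hu, hw'⟩ := exists_best_approximation (L := L) (M := M) hB hπB hc u.isUnit hno
    exact exists_weakSolution (C := C) hdeg hπi hπB hc b J w hu hw'
  · right; left
    push Not at hno
    obtain ⟨x, hx⟩ := hno
    obtain ⟨c, hcx⟩ := IsIntegrallyClosed.isIntegral_iff.1 (IsIntegral.of_pow hp.pos (R := C) (x := x) (by
      rw [hx, IsScalarTower.algebraMap_apply B C M]; exact isIntegral_algebraMap))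
    have hc' : c ^ p = algebraMap B C πB := IsFractionRing.injective C M (by
      rw [map_pow, hcx, hx, ← IsScalarTower.algebraMap_apply B C M])
    exact ⟨c, by rw [hc']; exact (IsScalarTower.algebraMap_apply A B C π).symm, adjoin_root_eq_top (L := L) (M := M) hp hdeg hπB hc'⟩

end Groth.Agent.PInsepStepLib
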