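import Groth.Agent.PInsepStepLib.Step

/-!
# Assembly of the trichotomy
-/

set_option autoImplicit false
set_option backward.isDefEq.respectTransparency false
set_option linter.style.haveILetI false
set_option linter.unusedSectionVars false
set_option maxHeartbeats 2000000
set_option synthInstance.maxHeartbeats 100000

universe u

open IsLocalRing Polynomial
open scoped TensorProduct

noncomputable section

namespace Groth.Agent.PInsepStepLib

variable {A B C K L M : Type u}
    [CommRing A] [IsDomain A] [IsDiscreteValuationRing A] [CommRing B] [IsDomain B] [IsDiscreteValuationRing B]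
    [CommRing C] [IsDomain C] [IsDiscreteValuationRing C]
    [Algebra A B] [Algebra B C] [Algebra A C] [IsScalarTower A B C]
    [IsLocalHom (algebraMap A B)] [IsLocalHom (algebraMap B C)]
    [Field K] [Field L] [Field M] [Algebra A K] [IsFractionRing A K] [Algebra B L] [IsFractionRing B L]
    [Algebra C M] [IsFractionRing C M] [Algebra K L] [Algebra L M] [Algebra K M] [IsScalarTower K L M]
    [Algebra A L] [IsScalarTower A K L] [IsScalarTower A B L] [Algebra B M] [IsScalarTower B L M] [IsScalarTower B C M]
    [Algebra A M] [IsScalarTower A K M] [IsScalarTower A C M]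

set_option maxHeartbeats 4000000 in
include C M in
/-- The separable weak solution. -/
theorem exists_weakSolution {p : ℕ} [Fact p.Prime] [CharP M p] [CharP L p] [FiniteDimensional L M]
    (hdeg : Module.finrank L M = p) {π : A} (hπ : Irreducible π) (hπB : Irreducible (algebraMap A B π)) {u : B}
    {c : C} (hc : c ^ p = algebraMap B C (u * algebraMap A B π)) (b : Fin p → B) (J : ℕ) (w : B)
    (hu : u = (∑ i : Fin p, b i ^ p * algebraMap A B π ^ (i : ℕ)) + algebraMap A B π ^ J * w)
    (hw : ∀ r : B, residue B w ≠ residue B r ^ p) :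
    ∃ (K₁ : Type u) (_ : Field K₁) (_ : Algebra K K₁),
        Module.finrank K K₁ = p ∧ Algebra.IsSeparable K K₁ ∧
          EtRam.IsTotallyRamified A ((algebraMap K K₁).comp (algebraMap A K)) ∧
          IsField (L ⊗[K] K₁) ∧ IsField (M ⊗[K] K₁) ∧
          EtRam.IsWeakSolution B K L K₁ ∧ EtRam.IsWeakSolution C K M K₁ := by
  classical
  have hp : p.Prime := Fact.out
  set πB := algebraMap A B π with hπBdef
  haveI : CharP K p := (RingHom.charP_iff (algebraMap K L) (algebraMap K L).injective p).2 inferInstance
  let Ω := AlgebraicClosure M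
  haveI : CharP Ω p := charP_of_injective_algebraMap (algebraMap M Ω).injective p
  let t : K := algebraMap A K π
  have ht0 : t ≠ 0 := (map_ne_zero_iff _ (IsFractionRing.injective A K)).2 hπ.ne_zero
  let f : K[X] := X ^ p - (Polynomial.C (t ^ (J + 1)) * X + Polynomial.C t)
  have hlin : (Polynomial.C (t ^ (J + 1)) * X + Polynomial.C t).degree < ((p : ℕ) : WithBot ℕ) :=
    lt_of_le_of_lt degree_linear_le (by exact_mod_cast hp.one_lt)
  have hf : f.Monic := (monic_X_pow p).sub_of_left (by rwa [degree_X_pow])
  have hfdeg : f.natDegree = p := by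
    rw [natDegree_eq_of_degree_eq (degree_sub_eq_left_of_degree_lt (by rwa [degree_X_pow])), natDegree_X_pow]
  have hfsep : f.Separable := by
    rw [Polynomial.separable_def, show derivative f = Polynomial.C (-(t ^ (J + 1))) by
      simp [f, derivative_X_pow, CharP.cast_eq_zero, derivative_pow]]
    exact IsCoprime.symm ⟨Polynomial.C (-(t ^ (J + 1)))⁻¹, 0, by
      rw [zero_mul, add_zero, ← map_mul, inv_mul_cancel₀ (neg_ne_zero.2 (pow_ne_zero _ ht0)), map_one]⟩
  obtain ⟨θ, hθ⟩ := IsAlgClosed.exists_aeval_eq_zero Ω f (by
    rw [degree_eq_natDegree hf.ne_zero, hfdeg]; exact_mod_cast hp.ne_zero)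
  -- the equation in any field over `K`
  have heq : ∀ (F : Type u) [Field F] [Algebra K F] (y : F), aeval y f = 0 →
      y ^ p = algebraMap K F t * (1 + algebraMap K F t ^ J * y) := by
    intro F _ _ y hy
    simp only [f, map_sub, map_add, map_mul, map_pow, aeval_X, aeval_C] at hy
    rw [sub_eq_zero] at hy
    rw [hy, pow_succ]
    ring
  have hθint : IsIntegral K θ := ⟨f, hf, by simpa [aeval_def] using hθ⟩
  let K₁ := IntermediateField.adjoin K ({θ} : Set Ω)
  haveI : FiniteDimensional K K₁ := IntermediateField.adjoin.finiteDimensional hθint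
  let t₁ : K₁ := ⟨θ, IntermediateField.mem_adjoin_simple_self K θ⟩
  have ht₁ : aeval t₁ f = 0 := Subtype.ext ((aeval_algHom_apply K₁.val t₁ f).symm.trans hθ)
  have htop : Algebra.adjoin K {t₁} = ⊤ := (IntermediateField.adjoin.powerBasis hθint).adjoin_gen_eq_top
  have hle₁ : Module.finrank K K₁ ≤ p := by
    rw [IntermediateField.adjoin.finrank hθint, ← hfdeg]
    exact natDegree_le_of_dvd (minpoly.dvd K θ hθ) hf.ne_zero
  -- total ramification
  letI : Algebra A K₁ := ((algebraMap K K₁).comp (algebraMap A K)).toAlgebra
  haveI : IsScalarTower A K K₁ := IsScalarTower.of_algebraMap_eq fun _ => rfl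
  have hπK₁ : algebraMap A K₁ π ≠ 0 := (map_ne_zero_iff _ (ASKumLib.injective_algebraMap' (K := K))).2 hπ.ne_zero
  have htr : EtRam.IsTotallyRamified A (algebraMap A K₁) ∧ Module.finrank K K₁ = p :=
    ASKumLib.totallyRamified_of_root (K := K) hp.pos hle₁ hπ t₁ fun V hV =>
      (root_valuation hp.pos (hV.2 π hπ.not_isUnit) hπK₁ J (heq K₁ t₁ ht₁)).2
  -- valuations in fields receiving `L` and the root
  have hcomm : ∀ (F : Type u) [Field F] [Algebra K F] [Algebra L F] [Algebra B F] [IsScalarTower K L F]
      [IsScalarTower B L F], algebraMap K F t = algebraMap B F πB := by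
    intro F _ _ _ _ _ _
    rw [IsScalarTower.algebraMap_apply K L F, IsScalarTower.algebraMap_apply B L F, hπBdef,
      ← IsScalarTower.algebraMap_apply A B L, ← IsScalarTower.algebraMap_apply A K L]
  have hgB : ∀ (F : Type u) [Field F] [Algebra L F] [Algebra B F] [IsScalarTower B L F], algebraMap B F πB ≠ 0 :=
    fun F _ _ _ _ => algebraMap_ne_zero (L := L) hπB.ne_zero
  have hθB : ∀ (F : Type u) [Field F] [Algebra K F] [Algebra L F] [Algebra B F] [IsScalarTower K L F]
      [IsScalarTower B L F] (V : ValuationSubring F) (y : F), EtRam.Dominates B (algebraMap B F) V →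
      aeval y f = 0 → V.valuation y ^ p = V.valuation (algebraMap B F πB) := by
    intro F _ _ _ _ _ _ V y hV hy
    exact (root_valuation hp.pos (hV.2 πB hπB.not_isUnit) (hgB F) J (by rw [← hcomm F]; exact heq F y hy)).2
  have hyC : ∀ (F : Type u) [Field F] [Algebra K F] [Algebra L F] [Algebra M F] [Algebra B F] [Algebra C F]
      [IsScalarTower K L F] [IsScalarTower B L F] [IsScalarTower B C F] [IsScalarTower C M F]
      [IsScalarTower L M F] (V : ValuationSubring F) (y : F), EtRam.Dominates B (algebraMap B F) V →
      aeval y f = 0 → ∃ z : F, ResIndep B V fun l : Fin p => z ^ (l : ℕ) := by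
    intro F _ _ _ _ _ _ _ _ _ _ _ V y hV hy
    haveI : CharP F p := charP_of_injective_algebraMap (algebraMap L F).injective p
    exact ⟨_, resIndep_pow hV hp w hw _ (exists_inseparable_elt hV hπB (hgB F) (u := u) b J hu
      (c := algebraMap C F c) (by rw [← map_pow, hc, ← IsScalarTower.algebraMap_apply])
      (by rw [← hcomm F]; exact heq F y hy))⟩
  -- independence in the algebraic closure
  obtain ⟨W₀, hW₀⟩ := ASKumLib.exists_dominates (A := C) (K := M) (L := Ω)
  have hW₀B := dominates_of_dominates (B := B) hW₀
  have hliL : LinearIndependent L fun i : Fin p => θ ^ (i : ℕ) := by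
    have h := (linearIndependent_family (L := L) hp.pos hW₀B (resIndep_one hW₀B) hπB
      (hθB Ω W₀ θ hW₀B hθ)).comp (fun i : Fin p => (i, ())) (fun i j hij => congrArg Prod.fst hij)
    simpa [Function.comp_def] using h
  have hliM : LinearIndependent M fun i : Fin p => θ ^ (i : ℕ) := by
    have hθM : IsIntegral M θ := hθint.tower_top
    let F := IntermediateField.adjoin M ({θ} : Set Ω)
    haveI : FiniteDimensional M F := IntermediateField.adjoin.finiteDimensional hθM
    haveI : FiniteDimensional L F := FiniteDimensional.trans L M F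
    haveI : IsScalarTower B C F := IsScalarTower.of_algebraMap_eq fun x => Subtype.ext (by
      show algebraMap B Ω x = algebraMap C Ω (algebraMap B C x)
      rw [← IsScalarTower.algebraMap_apply])
    haveI : IsScalarTower K L F := IsScalarTower.of_algebraMap_eq fun x => Subtype.ext (by
      show algebraMap K Ω x = algebraMap L Ω (algebraMap K L x)
      rw [← IsScalarTower.algebraMap_apply])
    haveI : IsScalarTower B L F := IsScalarTower.of_algebraMap_eq fun x => Subtype.ext (by
      show algebraMap B Ω x = algebraMap L Ω (algebraMap B L x)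
      rw [← IsScalarTower.algebraMap_apply])
    let θF : F := ⟨θ, IntermediateField.mem_adjoin_simple_self M θ⟩
    have hθF : aeval θF f = 0 := Subtype.ext ((aeval_algHom_apply (F.val.restrictScalars K) θF f).symm.trans hθ)
    obtain ⟨W, hW⟩ := ASKumLib.exists_dominates (A := C) (K := M) (L := F)
    have hWB := dominates_of_dominates (B := B) hW
    obtain ⟨z, hz⟩ := hyC F W θF hWB hθF
    have hcard := (linearIndependent_family (L := L) hp.pos hWB hz hπB (hθB F W θF hWB hθF)).fintype_card_le_finrank
    rw [Fintype.card_prod, Fintype.card_fin, ← Module.finrank_mul_finrank L M F, hdeg] at hcard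
    have hge : p ≤ (minpoly M θ).natDegree := by
      rw [← IntermediateField.adjoin.finrank hθM]
      exact Nat.le_of_mul_le_mul_left hcard hp.pos
    exact (linearIndependent_pow (K := M) θ).comp (Fin.castLE hge) (Fin.castLE_injective hge)
  refine ⟨K₁, inferInstance, inferInstance, htr.2, ?_, htr.1, isField_tensor K₁ htr.2 θ t₁.2 hliL,
    isField_tensor K₁ htr.2 θ t₁.2 hliM, ?_, ?_⟩
  · exact (IntermediateField.isSeparable_adjoin_simple_iff_isSeparable K Ω).2 (hfsep.of_dvd (minpoly.dvd K θ hθ))
  · intro F _ _ _ _ _ _ hgenF W hW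
    letI : Algebra B F := ((algebraMap L F).comp (algebraMap B L)).toAlgebra
    haveI : IsScalarTower B L F := IsScalarTower.of_algebraMap_eq fun _ => rfl
    have hW' : EtRam.Dominates B (algebraMap B F) W := hW
    obtain ⟨h1, h2⟩ := finite_of_generated (K := K) (E := L) t₁ htop f hf ht₁ hgenF
    haveI := h1
    have hv := hθB F W _ hW' (by rw [aeval_algebraMap_apply, ht₁, map_zero] : aeval (algebraMap K₁ F t₁) f = 0)
    exact weaklyUnramified_comap W (algebraMap K₁ F) t₁ (theta_lt_one hW' hπB hv)
      (le_theta (L := L) hp.pos hW' (resIndep_one hW') hπB hv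
        (by rw [Fintype.card_prod, Fintype.card_fin, Fintype.card_unit, mul_one, ← hfdeg]; exact h2))
  · intro F _ _ _ _ _ _ hgenF W hW
    letI : Algebra C F := ((algebraMap M F).comp (algebraMap C M)).toAlgebra
    haveI : IsScalarTower C M F := IsScalarTower.of_algebraMap_eq fun _ => rfl
    letI : Algebra L F := ((algebraMap M F).comp (algebraMap L M)).toAlgebra
    haveI : IsScalarTower L M F := IsScalarTower.of_algebraMap_eq fun _ => rfl
    haveI : IsScalarTower K L F := IsScalarTower.of_algebraMap_eq fun x => by
      show algebraMap K F x = algebraMap M F (algebraMap L M (algebraMap K L x))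
      rw [← IsScalarTower.algebraMap_apply K L M, ← IsScalarTower.algebraMap_apply]
    letI : Algebra B F := ((algebraMap L F).comp (algebraMap B L)).toAlgebra
    haveI : IsScalarTower B L F := IsScalarTower.of_algebraMap_eq fun _ => rfl
    haveI : IsScalarTower B C F := IsScalarTower.of_algebraMap_eq fun x => by
      show algebraMap M F (algebraMap L M (algebraMap B L x)) = algebraMap M F (algebraMap C M (algebraMap B C x))
      rw [← IsScalarTower.algebraMap_apply B L M, ← IsScalarTower.algebraMap_apply B C M]
    have hWB : EtRam.Dominates B (algebraMap B F) W := dominates_of_dominates (B := B) (C := C) hW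
    obtain ⟨h1, h2⟩ := finite_of_generated (K := K) (E := M) t₁ htop f hf ht₁ hgenF
    haveI := h1
    haveI : FiniteDimensional L F := FiniteDimensional.trans L M F
    have hy : aeval (algebraMap K₁ F t₁) f = 0 := by rw [aeval_algebraMap_apply, ht₁, map_zero]
    have hv := hθB F W _ hWB hy
    obtain ⟨z, hz⟩ := hyC F W _ hWB hy
    exact weaklyUnramified_comap W (algebraMap K₁ F) t₁ (theta_lt_one hWB hπB hv)
      (le_theta (L := L) hp.pos hWB hz hπB hv
        (by rw [← Module.finrank_mul_finrank L M F, hdeg, Fintype.card_prod, Fintype.card_fin]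
            exact Nat.mul_le_mul_left p (h2.trans_eq hfdeg)))

end Groth.Agent.PInsepStepLib
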